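import Cfsg.Agent.Lib.Comp.Thm.Mu0
import Cfsg.Agent.Lib.Comp.Th.Main

set_option maxRecDepth 100000
set_option Elab.async false

namespace Cfsg.Lib.Comp.Thm

universe u

open Cfsg.Lib.Comp.Th

theorem g_rel : Rels gam R := gam_rel.append ((The.rc _ _ gam_iv gam_rel).mono (by decide +kernel))

theorem g_ord : Ord.{0} iv Th.R L 90745943887872000 := fun Γ _ γ h1 h2 => by
  obtain ⟨f, hf⟩ := gam_ex.choose_spec.2.2.2.2 Γ γ h1 h2
  rw [← map_cl_of_gen (γ := gam) hf, gam_top, ← MonoidHom.range_eq_map, ← card_all.1]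
  exact ⟨Finite.of_surjective _ f.rangeRestrict_surjective, Nat.card_le_card_of_surjective _ f.rangeRestrict_surjective⟩

theorem lb_n : 634023936 ≤ 1 * Nat.card (cl gam LN) := by rw [one_mul, card_all.2.2.2]

theorem lb_d : 211341312 ≤ 1 * Nat.card (cl gam LD) := by rw [one_mul, d_ord]

theorem lb_c : 258048 ≤ 1 * Nat.card (cl gam [1,3,4,5,6,7]) := by
  have h : Nat.card (cl gam LD) ≤ _ := (The.TD_idx.card_le (cl gam [1,3,4,5,6,7]) gam_iv (gam_rel.mono (by decide +kernel))
    fun w hw => ev_mem fun x hx => mem_cl (by revert x w; decide)).2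
  rw [d_ord] at h
  exact (fun a (h : 211341312 ≤ 819 * a) => by omega : ∀ a, _ → 258048 ≤ 1 * a) _ h

theorem lb_a : 504 ≤ 1 * Nat.card (cl gam [4,5,6,7]) := by
  have h := lb_c.trans (Nat.mul_le_mul_left 1 (The.TC_idx.card_le (cl gam [4,5,6,7]) gam_iv (g_rel.mono (by decide +kernel))
    fun w hw => ev_mem fun x hx => mem_cl (by revert x w; decide)).2)
  exact (fun a (h : 258048 ≤ 1 * (512 * a)) => by omega : ∀ a, _ → 504 ≤ 1 * a) _ h

theorem mb : MB Spor.Th 1607970 1 :=
  mb_one (w := 50) (n := 43) (La := L) (ix := nth 0 [0,0,1,2,3,4,0,0,0,0,0,0]) (by norm_num) (by norm_num) gam_iv g_rel (by decide +kernel)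
    (TStep.trans (TStep.trans (TStep.trans (TStep.trans (TStep.trans (TStep.trans (TStep.trans (TStep.trans (TStep.trans (TStep.trans (TStep.trans (TStep.trans (TStep.trans (TStep.trans (TStep.trans (TStep.trans (TStep.trans (TStep.trans (TStep.trans (TStep.trans (TStep.trans (TStep.repar (k' := 36) (by norm_num) (by norm_num) (by decide +kernel) (by decide +kernel) Mu1_b)
    (TStep.enum0 (by norm_num) (by norm_num) Mu2_0 (Gs := Mu2G) (by decide +kernel)))
    (TStep.repar (k' := 31) (by norm_num) (by norm_num) (by decide +kernel) (by decide +kernel) Mu3_b))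
    (TStep.enum0 (by norm_num) (by norm_num) Mu4_0 (Gs := Mu4G) (by decide +kernel)))
    (TStep.repar (k' := 23) (by norm_num) (by norm_num) (by decide +kernel) (by decide +kernel) Mu5_b))
    (TStep.enum0 (by norm_num) (by norm_num) Mu6_0 (Gs := Mu6G) (by decide +kernel)))
    (TStep.repar (k' := 22) (by norm_num) (by norm_num) (by decide +kernel) (by decide +kernel) Mu7_b))
    (TStep.enum (by norm_num) (by norm_num) Mu8_0 (I := [3,4,12,14,18,19,39]) (by decide +kernel) (by decide +kernel) The.a_ord (c := 1) lb_a (Gs := Mu8G) (by decide +kernel)))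
    (TStep.repar (k' := 20) (by norm_num) (by norm_num) (by decide +kernel) (by decide +kernel) Mu9_b))
    (TStep.repar (k' := 20) (by norm_num) (by norm_num) (by decide +kernel) (by decide +kernel) Mu10_b))
    (TStep.enum (by norm_num) (by norm_num) Mu11_0 (I := [0,2,3,4,6,10,11,12,14,15,17,18,19,39,42]) (by decide +kernel) (by decide +kernel) The.c_ord (c := 1) lb_c (Gs := Mu11G) (by decide +kernel)))
    (TStep.repar (k' := 19) (by norm_num) (by norm_num) (by decide +kernel) (by decide +kernel) Mu12_b))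
    (TStep.enum (by norm_num) (by norm_num) Mu13_0 (I := [0,1,2,3,4,5,6,7,8,9,10,11,12,13,14,15,16,17,18,19,39,42]) (by decide +kernel) (by decide +kernel) The.d_ord (c := 1) lb_d (Gs := Mu13G) (by decide +kernel)))
    (TStep.repar (k' := 12) (by norm_num) (by norm_num) (by decide +kernel) (by decide +kernel) Mu14_b))
    (TStep.enum0 (by norm_num) (by norm_num) Mu15_0 (Gs := Mu15G) (by decide +kernel)))
    (TStep.repar (k' := 9) (by norm_num) (by norm_num) (by decide +kernel) (by decide +kernel) Mu16_b))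
    (TStep.enum (by norm_num) (by norm_num) Mu17_0 (I := [0,1,2,3,4,5,6,7,8,9,10,11,12,13,14,15,16,17,18,19,20,21,22,23,24,25,26,39,40,42]) (by decide +kernel) (by decide +kernel) The.n_ord (c := 1) lb_n (Gs := Mu17G) (by decide +kernel)))
    (TStep.repar (k' := 3) (by norm_num) (by norm_num) (by decide +kernel) (by decide +kernel) Mu18_b))
    (TStep.enum (by norm_num) (by norm_num) Mu19_0 (I := [0,1,2,3,4,5,6,7,8,9,10,11,12,13,14,15,16,17,18,19,20,21,22,23,24,25,26,39,40,42]) (by decide +kernel) (by decide +kernel) The.n_ord (c := 1) lb_n (Gs := Mu19G) (by decide +kernel)))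
    (TStep.repar (k' := 1) (by norm_num) (by norm_num) (by decide +kernel) (by decide +kernel) Mu20_b))
    (TStep.enum (by norm_num) (by norm_num) Mu21_0 (I := [0,1,2,3,4,5,6,7,8,9,10,11,12,13,14,15,16,17,18,19,20,21,22,23,24,25,26,39,40,42]) (by decide +kernel) (by decide +kernel) The.n_ord (c := 1) lb_n (Gs := Mu21G) (by decide +kernel)))
    (TStep.repar (k' := 0) (by norm_num) (by norm_num) (by decide +kernel) (by decide +kernel) Mu22_b))
    (L := [1,2,3,4,5,6,7,8,9,10,11]) (I := [0,1,2,3,4,5,6,7,8,9,10,11,12,13,14,15,16,17,18,19,20,21,22,23,24,25,26,27,28,29,30,31,32,33,34,35,36,37,38,39,40,41,42]) (by decide +kernel) (by decide +kernel) g_ord card_all.1.ge gam_top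

theorem mult : HasCyclicSchurMultiplier Spor.Th 1 := mb.mult_one (i := 15) (by rw [card_all.1]; decide +kernel)

end Cfsg.Lib.Comp.Thm
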